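import Mathlib
import Groth.Agent.KrullAki.Basic

open scoped Pointwise

universe u

namespace Groth.Agent.KrullAkiLen

variable {R : Type u} [CommRing R] [IsDomain R] [IsNoetherianRing R] [Ring.KrullDimLE 1 R]
  {K : Type u} [Field K] [Algebra R K] [IsFractionRing R K]

theorem length_le (n : ℕ) :
    ∀ (M : Type u) [AddCommGroup M] [Module R M] (f : M →ₗ[R] (Fin n → K)),
      Function.Injective f → ∀ a : R, a ≠ 0 →
        Module.length R (M ⧸ (a • (⊤ : Submodule R M))) ≤ n * Module.length R (R ⧸ Ideal.span {a}) := by
  induction n with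
  | zero =>
    intro M _ _ f hf a _
    haveI : Subsingleton M := hf.subsingleton
    simp
  | succ n ih =>
    intro M _ _ f hf a ha
    let g : M →ₗ[R] K := (LinearMap.proj 0).comp f
    let M' := LinearMap.ker g
    let M'' := LinearMap.range g
    let g' : M →ₗ[R] M'' := g.rangeRestrict
    let f' : M' →ₗ[R] (Fin n → K) := ((LinearMap.pi fun i : Fin n => LinearMap.proj i.succ).comp f).comp M'.subtype
    have hf' : Function.Injective f' := fun x y h => Subtype.ext (hf (funext fun i => by
      refine Fin.cases ?_ (fun j => congrFun h j) i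
      exact (LinearMap.mem_ker.1 x.2).trans (LinearMap.mem_ker.1 y.2).symm))
    have h1 := ih M' f' hf' a ha
    have h2 : Module.length R (M'' ⧸ (a • (⊤ : Submodule R M''))) ≤ Module.length R (R ⧸ Ideal.span {a}) :=
      Groth.Agent.KrullAki.length_quotient_le ha M''.subtype Subtype.val_injective
    let i : (M' ⧸ (a • (⊤ : Submodule R M'))) →ₗ[R] M ⧸ (a • (⊤ : Submodule R M)) :=
      Submodule.mapQ _ _ M'.subtype fun x hx => by
        obtain ⟨y, _, rfl⟩ := (Submodule.mem_smul_pointwise_iff_exists _ _ _).1 hx
        exact (Submodule.mem_smul_pointwise_iff_exists _ _ _).2 ⟨y, trivial, (map_smul M'.subtype a y).symm⟩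
    let p : (M ⧸ (a • (⊤ : Submodule R M))) →ₗ[R] M'' ⧸ (a • (⊤ : Submodule R M'')) :=
      Submodule.mapQ _ _ g' fun x hx => by
        obtain ⟨y, _, rfl⟩ := (Submodule.mem_smul_pointwise_iff_exists _ _ _).1 hx
        exact (Submodule.mem_smul_pointwise_iff_exists _ _ _).2 ⟨g' y, trivial, (map_smul g' a y).symm⟩
    have hle : LinearMap.ker p ≤ LinearMap.range i := fun x hx => by
      obtain ⟨x, rfl⟩ := Submodule.Quotient.mk_surjective _ x
      obtain ⟨y, _, hy⟩ := (Submodule.mem_smul_pointwise_iff_exists _ _ _).1
        ((Submodule.Quotient.mk_eq_zero _).1 hx)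
      obtain ⟨z, rfl⟩ := g.surjective_rangeRestrict y
      have hk : x - a • z ∈ M' := by
        rw [LinearMap.mem_ker, map_sub, map_smul, sub_eq_zero]
        exact (congrArg Subtype.val hy).symm
      refine ⟨Submodule.Quotient.mk ⟨x - a • z, hk⟩, ?_⟩
      refine (Submodule.Quotient.eq _).2 ((Submodule.mem_smul_pointwise_iff_exists _ _ _).2 ⟨-z, trivial, ?_⟩)
      show a • -z = x - a • z - x
      rw [smul_neg]
      abel
    have e := Module.length_eq_add_of_exact (LinearMap.ker p).subtype p.rangeRestrict Subtype.val_injective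
      p.surjective_rangeRestrict (LinearMap.exact_iff.2 (by simp))
    have ha' : Module.length R (LinearMap.ker p) ≤ (n : ℕ∞) * Module.length R (R ⧸ Ideal.span {a}) :=
      (Module.length_le_of_injective (Submodule.inclusion hle) (Submodule.inclusion_injective hle)).trans
        ((Module.length_le_of_surjective i.rangeRestrict i.surjective_rangeRestrict).trans h1)
    have hb : Module.length R (LinearMap.range p) ≤ Module.length R (R ⧸ Ideal.span {a}) :=
      (Module.length_le_of_injective (LinearMap.range p).subtype Subtype.val_injective).trans h2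
    rw [e, Nat.cast_succ, add_mul, one_mul]
    exact add_le_add ha' hb

end Groth.Agent.KrullAkiLen
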